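import Groth.Agent.H69.ResLim.Sigma
import Groth.Agent.H69.HomStage.Cor
import Groth.Agent.H47.FPModel
import Groth.Agent.H47.ModStageFree
import Groth.Agent.Lib.ZarCoh.FP
import Groth.Agent.Lib.TensorMod.FPConv
import Groth.Agent.H14.GerbeDesc.Stack

/-!
# The resolution property and limits of schemes
-/

set_option autoImplicit false
set_option linter.style.haveILetI false
set_option backward.isDefEq.respectTransparency false
universe u

open CategoryTheory CategoryTheory.Limits AlgebraicGeometry Opposite TopologicalSpace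
open Groth.Agent.Lib Groth.Agent.Lib.Flat55 Groth.Agent.H47 Groth.Agent.Lib.DescAlg.PbSec
open Groth.Agent.Lib.Modules.StalkModule

namespace Groth.Agent.H69.ResLim

/-- `V` is the surjectivity locus of a functional on a finite locally free module. -/
def Res (X : Scheme.{u}) (V : X.Opens) : Prop :=
  ∃ (E : X.Modules) (σ : E ⟶ Coh.structureModule X), FlatMod.IsFinLocFree E ∧
    ∀ x, Function.Surjective (stalkMapₗ σ x) ↔ x ∈ V

theorem Res.pullback {X T : Scheme.{u}} (g : T ⟶ X) {V : X.Opens} (h : Res X V) :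
    Res T (g ⁻¹ᵁ V) := by
  obtain ⟨E, σ, hE, hσ⟩ := h
  exact ⟨_, sig g σ, TensorMod.LocFree.isFinLocFree_pullback g hE,
    fun y => (sig_surjective_iff g σ y).trans (hσ _)⟩

theorem surjective_comp_epi_iff {X : Scheme.{u}} {A B : X.Modules} (p : A ⟶ B) [Epi p]
    (σ : B ⟶ Coh.structureModule X) (x : X) :
    Function.Surjective (stalkMapₗ (p ≫ σ) x) ↔ Function.Surjective (stalkMapₗ σ x) := by
  rw [stalkMapₗ_comp, LinearMap.coe_comp]
  exact ⟨fun h => h.of_comp,
    fun h => h.comp ((Modules.Stalk.epi_iff_stalk_surjective p).1 inferInstance x)⟩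

/-- The criterion of boundary functionals. -/
theorem hasResolutionProperty_of_res {X : Scheme.{u}} [CompactSpace X] [QuasiSeparatedSpace X]
    {A : Type*} [Finite A] (U : A → X.Opens) (hU : ∀ a, IsAffineOpen (U a)) (hcov : iSup U = ⊤)
    (h : ∀ a, Res X (U a)) : PerfAux.HasResolutionProperty X := by
  classical
  intro F hFq hFt
  choose E σ hE hσ using h
  choose B p hB hp using fun a => ResDescend36.Boundary2.exists_surjective_on (hU a) (hE a) (σ a)
    (hσ a) F ⟨hFq, hFt⟩
  have key : ∀ s : Finset A, ∃ (E' : X.Modules) (π' : E' ⟶ F), FlatMod.IsFinLocFree E' ∧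
      ∀ a ∈ s, ∀ x ∈ U a, Function.Surjective (stalkMapₗ π' x) := by
    intro s
    induction s using Finset.induction with
    | empty => exact ⟨FlatMod.freeMod X 0, Sigma.desc fun i => i.elim0,
        TensorMod.LocFree.of_rank (TensorMod.LocFree.isFinLocFree_freeMod X 0), by simp⟩
    | @insert a s ha ih =>
      obtain ⟨E', π', hE', hπ'⟩ := ih
      refine ⟨B a ⨿ E', coprod.desc (p a) π', TensorMod.LocFree.isFinLocFree_biprod (hB a) hE',
        fun b hb x hx => ?_⟩
      rcases Finset.mem_insert.1 hb with rfl | hb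
      · exact ResDescend36.Family.surjective_of_comp coprod.inl _ (by rw [coprod.inl_desc]; exact hp b x hx)
      · exact ResDescend36.Family.surjective_of_comp coprod.inr _ (by rw [coprod.inr_desc]; exact hπ' b hb x hx)
  haveI := Fintype.ofFinite A
  obtain ⟨E', π', hE', hπ'⟩ := key Finset.univ
  refine ⟨E', π', hE', (Modules.Stalk.epi_iff_stalk_surjective π').2 fun x => ?_⟩
  obtain ⟨a, hxa⟩ := Opens.mem_iSup.1 (hcov ▸ Opens.mem_top x)
  exact hπ' a (Finset.mem_univ a) x hxa

variable {I : Type u} [SmallCategory I] [IsCofiltered I] {D : I ⥤ Scheme.{u}} {c : Cone D}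
  [∀ (i j : I) (f : i ⟶ j), IsAffineHom (D.map f)]

/-- If the limit has the resolution property then, at some stage, a quasi-compact open is the
surjectivity locus of a functional on a finite locally free module. -/
theorem exists_res_stage (hc : IsLimit c) (i₀ : I) [CompactSpace (D.obj i₀)]
    [QuasiSeparatedSpace (D.obj i₀)] (hX : PerfAux.HasResolutionProperty c.pt)
    (V : (D.obj i₀).Opens) (hV : IsCompact (V : Set (D.obj i₀))) :
    ∃ k : Over i₀, Res (D.obj k.left) (D.map k.hom ⁻¹ᵁ V) := by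
  haveI : ∀ {i j : I} (f : i ⟶ j), IsAffineHom (D.map f) := fun f => inferInstance
  obtain ⟨M₀, σ₀, hMq, hMft, hσ₀⟩ := exists_sigma V hV
  haveI := hMq
  haveI : SheafOfModules.IsFiniteType (R := (D.obj i₀).ringCatSheaf) M₀ := hMft
  obtain ⟨E, p, hE, hp⟩ := hX ((Scheme.Modules.pullback (c.π.app i₀)).obj M₀)
    (QCoh.Pullback.isQCoh_pullback (c.π.app i₀) M₀) (Modules.SupportOps.isFT_pullback (c.π.app i₀) M₀)
  haveI := hp
  haveI : E.IsQuasicoherent := Modules.AffineSections.isQCoh_of_isFinLocFree hE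
  -- the module descends
  obtain ⟨i, a, W, _, G', g, hG', ⟨e⟩⟩ := FPModel.exists_descend D c hc i₀ E
    (TensorMod.FPConv.isFP_of_isFinLocFree hE)
  haveI : G'.IsQuasicoherent := hG'.1
  haveI := QCoh.Pullback.isQCoh_pullback g G'
  let Ei := (Scheme.Modules.pullback g).obj G'
  have hEi : CohB1.IsFP Ei := FlatLimit.isFP_pullback g G' (Lib.ZarCoh.FP.isFP_of_isCoh G' hG')
  haveI : CompactSpace (D.obj i) := QuasiCompact.compactSpace_of_compactSpace (D.map a)
  haveI : QuasiSeparatedSpace (D.obj i) := quasiSeparatedSpace_of_quasiSeparated (D.map a)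
  obtain ⟨j, φ, hEj⟩ := (ModStageFree.locFree_iff i Ei hc hEi).1
    (H14.GerbeDesc.isFinLocFree_of_iso e.symm hE)
  haveI : CompactSpace (D.obj j) := QuasiCompact.compactSpace_of_compactSpace (D.map φ)
  haveI : QuasiSeparatedSpace (D.obj j) := quasiSeparatedSpace_of_quasiSeparated (D.map φ)
  let Ej := (Scheme.Modules.pullback (D.map φ)).obj Ei
  haveI : Ej.IsQuasicoherent := QCoh.Pullback.isQCoh_pullback (D.map φ) Ei
  let Mj := (Scheme.Modules.pullback (D.map (φ ≫ a))).obj M₀
  haveI : Mj.IsQuasicoherent := QCoh.Pullback.isQCoh_pullback (D.map (φ ≫ a)) M₀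
  haveI : SheafOfModules.IsFiniteType (R := (D.obj j).ringCatSheaf) Mj :=
    Modules.SupportOps.isFT_pullback (D.map (φ ≫ a)) M₀
  -- the epimorphism descends
  let h := (tr (c.π.app j) (c.w φ) Ei).hom ≫ e.hom ≫ p ≫ (tr (c.π.app j) (c.w (φ ≫ a)) M₀).inv
  obtain ⟨j', hj', hconj⟩ := HomStage.Main.exists_conj_eq D c j Mj hc (F := Ej)
    (FlatLimit.isFP_pullback _ Ei hEi) h
  haveI : CompactSpace (D.obj j'.left) := QuasiCompact.compactSpace_of_compactSpace (D.map j'.hom)
  haveI := QCoh.Pullback.isQCoh_pullback (D.map j'.hom) Ej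
  haveI := QCoh.Pullback.isQCoh_pullback (D.map j'.hom) Mj
  have hepi : Epi ((Scheme.Modules.pullback (c.π.app j'.left)).map hj') := by
    have hh : Epi h := by
      dsimp only [h]
      infer_instance
    have : Epi (conj Ej Mj (c.π.app j'.left) (c.w j'.hom) hj') := by rw [hconj]; exact hh
    have e1 : (Scheme.Modules.pullback (c.π.app j'.left)).map hj' =
        (tr (c.π.app j'.left) (c.w j'.hom) Ej).hom ≫ conj Ej Mj (c.π.app j'.left) (c.w j'.hom) hj' ≫
          (tr (c.π.app j'.left) (c.w j'.hom) Mj).inv := by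
      simp [conj]
    rw [e1]
    infer_instance
  obtain ⟨k, χ, hχ⟩ := (ModStage.epi_iff j'.left hj' hc
    (Modules.SupportOps.isFT_pullback (D.map j'.hom) Mj)).1 hepi
  haveI := hχ
  refine ⟨Over.mk (χ ≫ j'.hom ≫ φ ≫ a), _,
    (Scheme.Modules.pullback (D.map χ)).map hj' ≫ sig (D.map χ) (sig (D.map j'.hom) (sig (D.map (φ ≫ a)) σ₀)),
    TensorMod.LocFree.isFinLocFree_pullback _ (TensorMod.LocFree.isFinLocFree_pullback _ hEj), fun x => ?_⟩
  rw [surjective_comp_epi_iff, sig_surjective_iff, sig_surjective_iff, sig_surjective_iff, hσ₀]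
  show _ ↔ D.map (χ ≫ j'.hom ≫ φ ≫ a) x ∈ V
  rw [D.map_comp χ, D.map_comp j'.hom, Scheme.Hom.comp_apply, Scheme.Hom.comp_apply]
  rfl

/-- The resolution property of a limit. -/
theorem hasResolutionProperty_limit_iff (hc : IsLimit c) [∀ i, CompactSpace (D.obj i)]
    [∀ i, QuasiSeparatedSpace (D.obj i)] :
    PerfAux.HasResolutionProperty c.pt ↔ ∃ i : I, PerfAux.HasResolutionProperty (D.obj i) := by
  classical
  haveI : ∀ {i j : I} (f : i ⟶ j), IsAffineHom (D.map f) := fun f => inferInstance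
  refine ⟨fun hX => ?_, fun ⟨i, hi⟩ => ?_⟩
  · obtain ⟨i₀⟩ := IsCofiltered.nonempty (C := I)
    obtain ⟨𝒮, h𝒮⟩ := Lib.Lim.Eventual.exists_finite_affine_cover (D.obj i₀)
    choose k hk using fun V : ↥𝒮 => exists_res_stage hc i₀ hX V.1.1 V.1.2.isCompact
    obtain ⟨j, hj⟩ := IsCofiltered.inf_objs_exists (Finset.univ.image k)
    refine ⟨j.left, hasResolutionProperty_of_res (fun V : ↥𝒮 => D.map j.hom ⁻¹ᵁ V.1.1)
      (fun V => V.1.2.preimage (D.map j.hom)) ?_ fun V => ?_⟩
    · rw [← Scheme.Hom.preimage_iSup, h𝒮]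
      rfl
    · obtain ⟨f⟩ := hj (X := k V) (Finset.mem_image_of_mem k (Finset.mem_univ V))
      have := (hk V).pullback (D.map f.left)
      rwa [← Scheme.Hom.comp_preimage, ← D.map_comp, Over.w f] at this
  · haveI : IsAffineHom (c.π.app i) := isAffineHom_π_app D c hc i
    exact ResDescend36.Affine.hasResolutionProperty (c.π.app i) hi

end Groth.Agent.H69.ResLim
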