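import Groth.Agent.Lib.ResDescend36.Boundary2
import Groth.Agent.Lib.ClSub.Sections
import Groth.Agent.Lib.Cyc.PB.Sect
import Groth.Agent.Lib.DerivedOX.PullbackStalk

/-!
# Functionals surjective exactly on an open, and their inverse images
-/

set_option autoImplicit false
set_option linter.style.haveILetI false
set_option backward.isDefEq.respectTransparency false
set_option backward.isDefEq.respectTransparency.types false
universe u

open CategoryTheory CategoryTheory.Limits AlgebraicGeometry Opposite TopologicalSpace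
open ZarCoh.FlatBC.PullbackSections

namespace Groth.Agent.H69.ResLim

open Groth.Agent.Lib Groth.Agent.Lib.Modules.StalkModule Groth.Agent.Lib.Modules.SubStalk
open Groth.Agent.Lib.Ample.GG (gm gm_rs gm_smul memTop)
open Groth.Agent.Lib.TensorMod.Dual (rs)
open Groth.Agent.Lib.TensorMod.Gen (one smul_one_eq)
open Groth.Agent.Lib.TensorMod.Basis (IsBasis comb)

variable {X T : Scheme.{u}}

theorem rs_one {U V : X.Opens} (h : V ≤ U) : rs (Coh.structureModule X) h (one X U) = one X V :=
  map_one (X.presheaf.map (homOfLE h).op).hom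

/-- The unit section is a basis of the structure module. -/
theorem isBasis_one : IsBasis (U := (⊤ : X.Opens)) fun _ : Fin 1 => one X ⊤ := by
  intro V hV
  have h : ∀ a : Fin 1 → Γ(X, V), comb (fun _ : Fin 1 => one X ⊤) hV a =
      (show Γ(Coh.structureModule X, V) from a 0) := fun a => by
    simp only [comb, Fin.sum_univ_one, rs_one]
    exact (smul_one_eq (a 0)).symm
  exact ⟨fun a b hab => funext fun k => by
      rw [h, h] at hab
      rw [Subsingleton.elim k 0]; exact hab,
    fun y => ⟨fun _ => y, h _⟩⟩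

theorem exists_unitHom (g : T ⟶ X) :
    ∃ s : (Scheme.Modules.pullback g).obj (Coh.structureModule X) ⟶ Coh.structureModule T,
      ∀ W : X.Opens, s.app (g ⁻¹ᵁ W) (pbRes g (Coh.structureModule X) le_rfl (one X W)) =
        one T (g ⁻¹ᵁ W) := by
  obtain ⟨s, hs⟩ := Cyc.PB.Sect.exists_hom_basis g (U := ⊤) (show (⊤ : T.Opens) ≤ g ⁻¹ᵁ (⊤ : X.Opens) from le_top) isBasis_one
    (N := Coh.structureModule T) (fun _ => one T ⊤)
  refine ⟨s, fun W => ?_⟩
  have := congrArg (rs (Coh.structureModule T) (le_top : g ⁻¹ᵁ W ≤ ⊤)) (hs 0)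
  rw [TensorMod.HomGlue.rs_app, Cyc.PB.Sect.rs_pbRes, rs_one] at this
  rw [← rs_one (le_top : W ≤ ⊤), Cyc.PB.Sect.pbRes_rs]
  exact this

/-- The canonical map from the inverse image of the structure module. -/
noncomputable def unitHom (g : T ⟶ X) :
    (Scheme.Modules.pullback g).obj (Coh.structureModule X) ⟶ Coh.structureModule T :=
  (exists_unitHom g).choose

theorem unitHom_one (g : T ⟶ X) (W : X.Opens) :
    (unitHom g).app (g ⁻¹ᵁ W) (pbRes g (Coh.structureModule X) le_rfl (one X W)) = one T (g ⁻¹ᵁ W) :=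
  (exists_unitHom g).choose_spec W

/-- The inverse image of a functional. -/
noncomputable def sig (g : T ⟶ X) {M : X.Modules} (σ : M ⟶ Coh.structureModule X) :
    (Scheme.Modules.pullback g).obj M ⟶ Coh.structureModule T :=
  (Scheme.Modules.pullback g).map σ ≫ unitHom g

theorem sig_pbRes (g : T ⟶ X) {M : X.Modules} (σ : M ⟶ Coh.structureModule X) {W : X.Opens}
    (m : Γ(M, W)) :
    (sig g σ).app (g ⁻¹ᵁ W) (pbRes g M le_rfl m) =
      g.app W (show Γ(X, W) from σ.app W m) • one T (g ⁻¹ᵁ W) := by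
  have key : ∀ r : Γ(X, W),
      (unitHom g).app (g ⁻¹ᵁ W)
          (pbRes g (Coh.structureModule X) le_rfl (r • one X W)) = g.app W r • one T (g ⁻¹ᵁ W) := by
    intro r
    rw [pbRes_smul, Scheme.Modules.Hom.app_smul, unitHom_one, Scheme.Hom.app_eq_appLE]
  rw [sig, Scheme.Modules.Hom.comp_app, ConcreteCategory.comp_apply, DescAlg.PbSec.pbRes_natural]
  refine Eq.trans ?_ (key (show Γ(X, W) from σ.app W m))
  exact congrArg (fun z => (unitHom g).app (g ⁻¹ᵁ W) (pbRes g (Coh.structureModule X) le_rfl z))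
    (smul_one_eq (show Γ(X, W) from σ.app W m))

theorem gm_one_ne_zero {x : X} {W : X.Opens} (hx : x ∈ W) :
    gm hx (one X W) ≠ (0 : (Coh.structureModule X).presheaf.stalk x) := by
  intro h
  rw [show (0 : (Coh.structureModule X).presheaf.stalk x) =
    gm hx (0 : Γ(Coh.structureModule X, W)) from (map_zero _).symm] at h
  obtain ⟨W', hxW', i, k, hk⟩ := TopCat.Presheaf.germ_eq _ x hx hx _ _ h
  have h1 : (1 : Γ(X, W')) = 0 := by
    refine ((map_one (X.presheaf.map i.op).hom).symm.trans (hk.trans ?_))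
    exact map_zero (X.presheaf.map k.op).hom
  exact one_ne_zero ((map_one (X.presheaf.germ W' x hxW').hom).symm.trans
    ((congrArg (X.presheaf.germ W' x hxW') h1).trans (map_zero _)))

theorem stalk_eq_span_one (x : X) (v : (Coh.structureModule X).presheaf.stalk x) :
    ∃ c : X.presheaf.stalk x, v = c • gm (memTop x) (one X ⊤) := by
  obtain ⟨W, hxW, r, rfl⟩ := TopCat.Presheaf.exists_germ_eq _ v
  refine ⟨X.presheaf.germ W x hxW r, ?_⟩
  rw [ResDescend36.Boundary.gm_one (memTop x) hxW, ← gm_smul]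
  exact congrArg (gm hxW) (smul_one_eq (show Γ(X, W) from r))

theorem surjective_of_unit {N : X.Modules} (σ : N ⟶ Coh.structureModule X) {x : X}
    {w : N.presheaf.stalk x} {c : X.presheaf.stalk x} (hc : IsUnit c)
    (h : stalkMapₗ σ x w = c • gm (memTop x) (one X ⊤)) : Function.Surjective (stalkMapₗ σ x) := by
  intro v
  obtain ⟨d, rfl⟩ := stalk_eq_span_one x v
  refine ⟨(d * ↑hc.unit⁻¹) • w, ?_⟩
  rw [map_smul, h, smul_smul, mul_assoc, IsUnit.val_inv_mul, mul_one]

theorem stalk_sig_unitStalk (g : T ⟶ X) {M : X.Modules} (σ : M ⟶ Coh.structureModule X) (y : T)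
    (a : M.presheaf.stalk (g y)) :
    ∃ c : X.presheaf.stalk (g y), stalkMapₗ σ (g y) a = c • gm (memTop (g y)) (one X ⊤) ∧
      stalkMapₗ (sig g σ) y (DerivedOX.PullbackStalk.pushStalkMap g y _
        (stalkMapₗ ((Scheme.Modules.pullbackPushforwardAdjunction g).unit.app M) (g y) a)) =
          (g.stalkMap y).hom c • gm (memTop y) (one T ⊤) := by
  obtain ⟨W, hW, m, rfl⟩ := TopCat.Presheaf.exists_germ_eq M.presheaf a
  refine ⟨X.presheaf.germ W (g y) hW (show Γ(X, W) from σ.app W m), ?_, ?_⟩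
  · rw [stalkMapₗ_germ, ResDescend36.Boundary.gm_one (memTop (g y)) hW, ← gm_smul]
    exact congrArg (gm hW) (smul_one_eq (show Γ(X, W) from σ.app W m))
  · erw [stalkMapₗ_germ]
    erw [DerivedOX.PullbackStalk.pushStalkMap_germ]
    have e : pbRes g M (le_refl (g ⁻¹ᵁ W)) m =
        ((Scheme.Modules.pullbackPushforwardAdjunction g).unit.app M).app W m :=
      TensorMod.Dual.rs_self _ _ _
    rw [← e]
    erw [stalkMapₗ_germ, sig_pbRes]
    change gm (show y ∈ g ⁻¹ᵁ W from hW) _ = _
    rw [gm_smul, ResDescend36.Boundary.gm_one (memTop y) (show y ∈ g ⁻¹ᵁ W from hW),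
      Scheme.Hom.germ_stalkMap_apply]

/-- The inverse image of a functional is surjective exactly over its surjectivity locus. -/
theorem sig_surjective_iff (g : T ⟶ X) {M : X.Modules} (σ : M ⟶ Coh.structureModule X) (y : T) :
    Function.Surjective (stalkMapₗ (sig g σ) y) ↔ Function.Surjective (stalkMapₗ σ (g y)) := by
  constructor
  · intro hs
    by_contra hns
    let 𝔪 := IsLocalRing.maximalIdeal (T.presheaf.stalk y)
    let e := gm (memTop y) (one T ⊤)
    let P : Submodule (T.presheaf.stalk y) ((Coh.structureModule T).presheaf.stalk y) :=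
      Submodule.map (LinearMap.toSpanSingleton _ _ e) 𝔪
    have hgen : ∀ w, stalkMapₗ (sig g σ) y w ∈ P := by
      intro w
      letI : Algebra (X.presheaf.stalk (g y)) (T.presheaf.stalk y) := (g.stalkMap y).hom.toAlgebra
      obtain ⟨t, rfl⟩ := ((ConcreteCategory.isIso_iff_bijective
        ((DerivedOX.PullbackStalk.comparison g y).app M)).1 inferInstance).2 w
      induction t using TensorProduct.induction_on with
      | zero => simp only [map_zero]; exact zero_mem _
      | tmul d₀ a =>
        obtain ⟨d, rfl⟩ : ∃ d : T.presheaf.stalk y, d = d₀ := ⟨d₀, rfl⟩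
        have e2 : (DerivedOX.PullbackStalk.comparison g y).app M (d ⊗ₜ[X.presheaf.stalk (g y)] a) =
            d • DerivedOX.PullbackStalk.pushStalkMap g y _
              (stalkMapₗ ((Scheme.Modules.pullbackPushforwardAdjunction g).unit.app M) (g y) a) := by
          rw [← DerivedOX.PullbackStalk.comparison_one_tmul]
          refine Eq.trans ?_ (map_smul ((DerivedOX.PullbackStalk.comparison g y).app M).hom d _)
          congr 1
          exact ((TensorProduct.smul_tmul' d (1 : T.presheaf.stalk y) a).trans (by rw [smul_eq_mul, mul_one])).symm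
        rw [e2, map_smul]
        obtain ⟨c, hc, hc'⟩ := stalk_sig_unitStalk g σ y a
        rw [hc']
        refine P.smul_mem d ⟨_, ?_, rfl⟩
        have hnu : ¬ IsUnit c := fun hu => hns (surjective_of_unit σ hu hc)
        exact fun hu => hnu (isUnit_of_map_unit (g.stalkMap y).hom c hu)
      | add s t hs ht => rw [map_add, map_add]; exact add_mem hs ht
    obtain ⟨w, hw⟩ := hs e
    obtain ⟨r, hr, hre⟩ := hgen w
    rw [hw, LinearMap.toSpanSingleton_apply] at hre
    have h1 : (1 - r) • e = 0 := by rw [sub_smul, one_smul, hre, sub_self]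
    have hu : IsUnit (1 - r) := IsLocalRing.isUnit_one_sub_self_of_mem_nonunits r hr
    exact gm_one_ne_zero (memTop y) ((hu.smul_eq_zero).1 h1)
  · intro hs
    obtain ⟨a, ha⟩ := hs (gm (memTop (g y)) (one X ⊤))
    obtain ⟨c, hc, hc'⟩ := stalk_sig_unitStalk g σ y a
    have h1 : (1 - c) • gm (memTop (g y)) (one X ⊤) = 0 := by
      rw [sub_smul, one_smul, ← hc, ha, sub_self]
    have hnu : ¬ IsUnit (1 - c) := fun hu => gm_one_ne_zero (memTop (g y)) ((hu.smul_eq_zero).1 h1)
    have hu : IsUnit c := by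
      rcases IsLocalRing.isUnit_or_isUnit_one_sub_self c with h | h
      · exact h
      · exact absurd h hnu
    exact surjective_of_unit _ (hu.map (g.stalkMap y).hom) hc'

/-- On a qcqs scheme a quasi-compact open is the surjectivity locus of a functional on a finite
type quasi-coherent module. -/
theorem exists_sigma [CompactSpace X] [QuasiSeparatedSpace X] (V : X.Opens)
    (hV : IsCompact (V : Set X)) :
    ∃ (M : X.Modules) (σ : M ⟶ Coh.structureModule X), M.IsQuasicoherent ∧ CohB1.IsFT M ∧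
      ∀ x, Function.Surjective (stalkMapₗ σ x) ↔ x ∈ V := by
  classical
  let I := Scheme.IdealSheafData.vanishingIdeal (X := X) ⟨(V : Set X)ᶜ, V.2.isClosed_compl⟩
  have hsupp : (I.support : Set X) = (V : Set X)ᶜ := by
    simp [I]
  haveI : (ClSub.idealMod I).IsQuasicoherent := Ample.QAffCrit.isQCoh_idealMod I
  have hloc : ∀ x : V, ∃ (W : X.affineOpens) (t : Γ(ClSub.idealMod I, W.1)),
      x.1 ∈ X.basicOpen (show Γ(X, W.1) from (ClSub.idealModι I).app W.1 t) := by
    intro x
    obtain ⟨_, ⟨W, hW, rfl⟩, hxW, -⟩ :=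
      X.isBasis_affineOpens.exists_subset_of_mem_open (Set.mem_univ x.1) isOpen_univ
    by_contra hc
    push Not at hc
    have hz : x.1 ∈ (I.support : Set X) :=
      (Scheme.IdealSheafData.mem_support_iff_of_mem (I := I) (U := ⟨W, hW⟩) hxW).2
        ((Scheme.mem_zeroLocus_iff X _ _).2 fun r hr => by
          obtain ⟨t, ht⟩ := (Lib.ClSub.Sections.mem_range_idealModι_app_affine_iff I ⟨W, hW⟩ r).2 hr
          rw [← ht]
          exact hc ⟨W, hW⟩ t)
    rw [hsupp] at hz
    exact hz x.2
  choose W t ht using hloc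
  obtain ⟨s, hs⟩ := hV.elim_finite_subcover
    (fun x : V => (X.basicOpen (show Γ(X, (W x).1) from (ClSub.idealModι I).app (W x).1 (t x)) : Set X))
    (fun x => Opens.isOpen _) (fun x hx => Set.mem_iUnion.2 ⟨⟨x, hx⟩, ht ⟨x, hx⟩⟩)
  have hfam : ∀ F : Finset V, ∃ S : Family (ClSub.idealMod I), IsLocFG S ⊤ ∧
      ∀ x ∈ F, t x ∈ secs S (W x).1 := by
    intro F
    induction F using Finset.induction with
    | empty => exact ⟨fun _ => ⊥, QCAlgSub.Sections.isLocFG_bot ⊤, by simp⟩
    | @insert a F ha ih =>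
      obtain ⟨S, hS, hmem⟩ := ih
      obtain ⟨T', hT, hTmem⟩ := QCAlgSub.Sections.exists_family_qcqs (W a).2 (fun _ : Fin 1 => t a)
      refine ⟨fun x => S x ⊔ T' x, QCAlgSub.Sections.isLocFG_sup_family hS hT, fun x hx => ?_⟩
      rcases Finset.mem_insert.1 hx with rfl | hx
      · exact fun y hy => Submodule.mem_sup_right (hTmem 0 y hy)
      · exact fun y hy => Submodule.mem_sup_left (hmem x hx y hy)
  obtain ⟨S, hS, hmem⟩ := hfam s
  refine ⟨subMod S, ι S ≫ ClSub.idealModι I, isQCoh_subMod hS, isFT_subMod hS, fun x => ⟨fun hsj => ?_, fun hx => ?_⟩⟩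
  · by_contra hxV
    obtain ⟨w, hw⟩ := hsj (gm (memTop x) (one X ⊤))
    obtain ⟨U, hxU, m, rfl⟩ := TopCat.Presheaf.exists_germ_eq (subMod S).presheaf w
    erw [stalkMapₗ_germ] at hw
    obtain ⟨U', hxU', i, k, hk⟩ := TopCat.Presheaf.germ_eq (Coh.structureModule X).presheaf x hxU
      (memTop x) _ _ hw
    obtain ⟨_, ⟨A, hA, rfl⟩, hxA, hAU⟩ := X.isBasis_affineOpens.exists_subset_of_mem_open hxU' U'.2
    have hle : A ≤ U' := hAU
    let m' := rs (subMod S) (hle.trans i.le) m
    have h1 : (ι S ≫ ClSub.idealModι I).app A m' = one X A := by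
      refine (TensorMod.HomGlue.rs_app _ (hle.trans i.le) m).symm.trans ?_
      refine Eq.trans ?_ (rs_one (hle.trans k.le))
      refine (TensorMod.Dual.rs_rs _ i.le hle _).symm.trans (Eq.trans ?_ (TensorMod.Dual.rs_rs _ k.le hle _))
      exact congrArg (rs (Coh.structureModule X) hle) hk
    have h1I : (1 : Γ(X, A)) ∈ I.ideal ⟨A, hA⟩ :=
      (Lib.ClSub.Sections.mem_range_idealModι_app_affine_iff I ⟨A, hA⟩ 1).1 ⟨(ι S).app A m', h1⟩
    have hz : x ∈ (I.support : Set X) := by rw [hsupp]; exact hxV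
    have := (Scheme.mem_zeroLocus_iff X _ _).1
      ((Scheme.IdealSheafData.mem_support_iff_of_mem (I := I) (U := ⟨A, hA⟩) hxA).1 hz) 1 h1I
    exact this ((X.mem_basicOpen _ x hxA).2 (by rw [map_one]; exact isUnit_one))
  · obtain ⟨a, ha, hxa⟩ := Set.mem_iUnion₂.1 (hs hx)
    obtain ⟨q, hq⟩ := exists_ι_app (hmem a ha)
    have hxW : x ∈ (W a).1 := X.basicOpen_le _ hxa
    refine surjective_of_unit _ ((X.mem_basicOpen _ x hxW).1 hxa)
      (w := (subMod S).presheaf.germ (W a).1 x hxW q) ?_
    rw [ResDescend36.Boundary.gm_one (memTop x) hxW, ← gm_smul]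
    refine (stalkMapₗ_germ _ hxW q).trans (congrArg (gm hxW) ?_)
    refine Eq.trans ?_ (smul_one_eq (show Γ(X, (W a).1) from (ClSub.idealModι I).app (W a).1 (t a)))
    rw [← hq]
    rfl

end Groth.Agent.H69.ResLim
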